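import Groth.Agent.Lib.Helper22.RpushNat.PresheafDelta
import Groth.Agent.Lib.Helper22.RightDerivedExact
import Groth.Prelude.Def_CohSite

/-!
# `R^n f_* F` is naturally the sheafification of `V ↦ H^n(u V, F)`
-/

set_option autoImplicit false
set_option linter.unusedSectionVars false

universe u

open CategoryTheory CategoryTheory.Limits Opposite Abelian

namespace Groth.Agent.Lib.Helper22.RpushNat

open Groth.Agent.Lib.Helper22.DeltaMV

section Postcomp

variable {A : Type*} [Category A] [Abelian A] {B : Type*} [Category B] [Abelian B]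
  {B' : Type*} [Category B'] [Abelian B']

/-- Postcomposition of a δ-functor with an exact functor. -/
noncomputable def postcompDelta (T : DeltaF.CohDeltaFunctor A B ℕ) (E : B ⥤ B') [E.Additive]
    [E.PreservesHomology] : DeltaF.CohDeltaFunctor A B' ℕ where
  F n := T.F n ⋙ E
  additive n := inferInstance
  δ S hS n₀ n₁ h := E.map (T.δ S hS n₀ n₁ h)
  δ_natural {S S'} hS hS' φ n₀ n₁ h := by
    change E.map ((T.F n₀).map φ.τ₃) ≫ E.map _ = E.map _ ≫ E.map ((T.F n₁).map φ.τ₁)
    rw [← E.map_comp, T.δ_natural hS hS' φ n₀ n₁ h, E.map_comp]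
  exact₂ S hS n := (T.exact₂ S hS n).map E
  comp_δ S hS n₀ n₁ h := by
    change E.map ((T.F n₀).map S.g) ≫ E.map _ = 0
    rw [← E.map_comp, T.comp_δ S hS n₀ n₁ h, E.map_zero]
  exact₃ S hS n₀ n₁ h := (T.exact₃ S hS n₀ n₁ h).map E
  δ_comp S hS n₀ n₁ h := by
    change E.map _ ≫ E.map ((T.F n₁).map S.f) = 0
    rw [← E.map_comp, T.δ_comp S hS n₀ n₁ h, E.map_zero]
  exact₁ S hS n₀ n₁ h := (T.exact₁ S hS n₀ n₁ h).map E

end Postcomp

variable {C D : Type u} [SmallCategory C] [SmallCategory D] (J : GrothendieckTopology C)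
  (K : GrothendieckTopology D) (u : D ⥤ C) [u.IsContinuous K J]

/-- Presheaf pushforward followed by sheafification: an exact functor. -/
noncomputable abbrev Eu : (Cᵒᵖ ⥤ AddCommGrpCat.{u}) ⥤ Sheaf K AddCommGrpCat.{u} :=
  (Functor.whiskeringLeft _ _ AddCommGrpCat.{u}).obj u.op ⋙ presheafToSheaf K AddCommGrpCat.{u}

instance : (Eu K u).Additive := inferInstance

instance : (Eu K u).PreservesHomology := {}

/-- The δ-functor `F ↦ (V ↦ H^•(u V, F))^#`. -/
noncomputable def TS : DeltaF.CohDeltaFunctor (Sheaf J AddCommGrpCat.{u}) (Sheaf K AddCommGrpCat.{u}) ℕ :=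
  postcompDelta (presheafDelta J) (Eu K u)

lemma TS_F (n : ℕ) : (TS J K u).F n = TP J n ⋙ Eu K u := rfl

/-- `f_* = a ∘ f_*^{pre} ∘ forget`. -/
noncomputable def forgetEuIso :
    sheafToPresheaf J AddCommGrpCat.{u} ⋙ Eu K u ≅ CohSite.push J K u :=
  (Functor.isoWhiskerLeft (CohSite.push J K u)
    (sheafificationNatIso K AddCommGrpCat.{u})).symm

/-- The degree zero part of `TS` is the pushforward. -/
noncomputable def TS0Iso : (TS J K u).F 0 ≅ CohSite.push J K u :=
  Functor.isoWhiskerRight (TP0Iso J) (Eu K u) ≪≫ forgetEuIso J K u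

lemma TS_zeroMono : (TS J K u).ZeroMono := by
  intro S hS
  have : Mono S.f := hS.mono_f
  have h1 : Mono ((CohSite.push J K u).map S.f) := by
    have : PreservesLimitsOfSize.{0, 0} (CohSite.push J K u) :=
      (u.sheafAdjunctionContinuous AddCommGrpCat.{u} K J).rightAdjoint_preservesLimits
    have : PreservesFiniteLimits (CohSite.push J K u) :=
      PreservesLimitsOfSize.preservesFiniteLimits _
    infer_instance
  have h2 := (TS0Iso J K u).hom.naturality S.f
  have h3 : Mono (((TS J K u).F 0).map S.f ≫ (TS0Iso J K u).hom.app S.X₂) := by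
    rw [h2]
    infer_instance
  exact mono_of_mono _ ((TS0Iso J K u).hom.app S.X₂)

lemma isZero_TP_succ_injective (I : Sheaf J AddCommGrpCat.{u}) [Injective I] (n : ℕ) :
    IsZero ((TP J (n + 1)).obj I) := by
  rw [IsZero.iff_id_eq_zero]
  ext U x
  exact Ext.eq_zero_of_injective _

lemma TS_isEffaceable : (TS J K u).IsEffaceable := by
  intro n F
  refine ⟨Injective.under F, Injective.ι F, inferInstance, ?_⟩
  have hz : IsZero (((TS J K u).F (n + 1)).obj (Injective.under F)) :=
    (Eu K u).map_isZero (isZero_TP_succ_injective J _ n)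
  exact hz.eq_of_tgt _ _

/-- **`R^n f_*` is naturally the sheafification of `V ↦ H^n(u V, -)`.** -/
noncomputable def RpushIso (n : ℕ) : CohSite.Rpush J K u n ≅ TP J n ⋙ Eu K u :=
  (DimShift.rightDerivedIsoOfNatIso (TS0Iso J K u) n).symm ≪≫
    { hom := (θ (TS J K u) (TS_isEffaceable J K u) (TS_zeroMono J K u)).hom.app n
      inv := (θ (TS J K u) (TS_isEffaceable J K u) (TS_zeroMono J K u)).inv.app n
      hom_inv_id := by
        have h := congrArg (fun φ : RD ((TS J K u).F 0) ⟶ RD ((TS J K u).F 0) => φ.app n)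
          (θ (TS J K u) (TS_isEffaceable J K u) (TS_zeroMono J K u)).hom_inv_id
        exact h
      inv_hom_id := by
        have h := congrArg (fun φ : TS J K u ⟶ TS J K u => φ.app n)
          (θ (TS J K u) (TS_isEffaceable J K u) (TS_zeroMono J K u)).inv_hom_id
        exact h }

end Groth.Agent.Lib.Helper22.RpushNat
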