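import Groth.Agent.Lib.Helper22.RpushNat.Basic

/-!
# Higher direct images commute with colimits when cohomology does so locally
-/

set_option autoImplicit false
set_option linter.unusedSectionVars false

universe u

open CategoryTheory CategoryTheory.Limits Opposite Abelian

namespace Groth.Agent.Lib.Helper22.RpushNat

variable {C D : Type u} [SmallCategory C] [SmallCategory D] (J : GrothendieckTopology C)
  (K : GrothendieckTopology D) (u : D ⥤ C) [u.IsContinuous K J]

/-- `F ↦ (V ↦ H^p(u V, F))` with values in presheaves on `D`. -/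
noncomputable abbrev Φ (p : ℕ) : Sheaf J AddCommGrpCat.{u} ⥤ Dᵒᵖ ⥤ AddCommGrpCat.{u} :=
  TP J p ⋙ (Functor.whiskeringLeft _ _ AddCommGrpCat.{u}).obj u.op

variable {ι : Type u} [SmallCategory ι] (F : ι ⥤ Sheaf J AddCommGrpCat.{u}) (p : ℕ)

section

variable {c : Cocone F} (hc : IsColimit c)

/-- The comparison map `colim_i Φ(F_i) ⟶ Φ(colim F)`. -/
noncomputable def ψ : (colimit.cocone (F ⋙ Φ J u p)).pt ⟶ (Φ J u p).obj c.pt :=
  (colimit.isColimit (F ⋙ Φ J u p)).desc ((Φ J u p).mapCocone c)

include hc in
lemma isIso_ψ_app (Y : D)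
    (hY : PreservesColimit F
      ((Sheaf.cohomologyPresheafFunctor J p).flip.obj (op (u.obj Y)))) :
    IsIso ((ψ J u F p (c := c)).app (op Y)) := by
  let ev := (evaluation Dᵒᵖ AddCommGrpCat.{u}).obj (op Y)
  have h2 : IsColimit (((Sheaf.cohomologyPresheafFunctor J p).flip.obj
      (op (u.obj Y))).mapCocone c) := isColimitOfPreserves _ hc
  have h2' : IsColimit (ev.mapCocone ((Φ J u p).mapCocone c)) := h2
  have e : (ψ J u F p (c := c)).app (op Y) =
      ((isColimitOfPreserves ev (colimit.isColimit (F ⋙ Φ J u p))).coconePointUniqueUpToIso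
        h2').hom :=
    (preserves_desc_mapCocone ev _ (colimit.cocone (F ⋙ Φ J u p)) ((Φ J u p).mapCocone c)
      (colimit.isColimit (F ⋙ Φ J u p))).symm
  rw [e]
  infer_instance

end

variable (h : ∀ V : D, ∃ (κ : Type u) (Y : κ → D) (g : ∀ k, Y k ⟶ V), Sieve.ofArrows Y g ∈ K V ∧
      ∀ k, PreservesColimit F
        ((Sheaf.cohomologyPresheafFunctor J p).flip.obj (op (u.obj (Y k)))))

include h in
lemma W_ψ {c : Cocone F} (hc : IsColimit c) : K.W (ψ J u F p (c := c)) := by
  rw [GrothendieckTopology.W_iff_isLocallyBijective]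
  constructor
  · constructor
    intro V x y hxy
    obtain ⟨κ, Y, g, hcov, hY⟩ := h V.unop
    refine K.superset_covering ?_ hcov
    rw [Sieve.ofArrows, Sieve.generate_le_iff, Presieve.ofArrows_le_iff]
    intro k
    have hiso := isIso_ψ_app J u F p hc (Y k) (hY k)
    have hinj : Function.Injective ((ψ J u F p (c := c)).app (op (Y k))) :=
      (ConcreteCategory.bijective_of_isIso _).1
    apply hinj
    have n1 := ConcreteCategory.congr_hom ((ψ J u F p (c := c)).naturality (g k).op) x
    have n2 := ConcreteCategory.congr_hom ((ψ J u F p (c := c)).naturality (g k).op) y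
    rw [ConcreteCategory.comp_apply, ConcreteCategory.comp_apply] at n1 n2
    exact n1.trans ((congrArg _ hxy).trans n2.symm)
  · constructor
    intro V s
    obtain ⟨κ, Y, g, hcov, hY⟩ := h V
    refine K.superset_covering ?_ hcov
    rw [Sieve.ofArrows, Sieve.generate_le_iff, Presieve.ofArrows_le_iff]
    intro k
    have hiso := isIso_ψ_app J u F p hc (Y k) (hY k)
    have hsurj : Function.Surjective ((ψ J u F p (c := c)).app (op (Y k))) :=
      (ConcreteCategory.bijective_of_isIso _).2
    obtain ⟨t, ht⟩ := hsurj (((Φ J u p).obj c.pt).map (g k).op s)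
    exact ⟨t, ht⟩

include h in
/-- If `H^p(u Y, -)` preserves the colimit of `F` for a covering family of `Y`s of each object, then
`R^p f_*` preserves it. -/
theorem preservesColimit_Rpush : PreservesColimit F (CohSite.Rpush J K u p) := by
  have key : PreservesColimit F (Φ J u p ⋙ presheafToSheaf K AddCommGrpCat.{u}) := by
    constructor
    intro c hc
    refine ⟨?_⟩
    have hW : IsIso ((presheafToSheaf K AddCommGrpCat.{u}).map (ψ J u F p (c := c))) :=
      (GrothendieckTopology.W_iff _ _).1 (W_ψ J K u F p h hc)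
    have h1 : IsColimit ((presheafToSheaf K AddCommGrpCat.{u}).mapCocone
        (colimit.cocone (F ⋙ Φ J u p))) :=
      isColimitOfPreserves _ (colimit.isColimit (F ⋙ Φ J u p))
    refine IsColimit.ofIsoColimit h1 (Cocone.ext
      (asIso ((presheafToSheaf K AddCommGrpCat.{u}).map (ψ J u F p (c := c)))) ?_)
    intro i
    change (presheafToSheaf K AddCommGrpCat.{u}).map _ ≫
      (presheafToSheaf K AddCommGrpCat.{u}).map _ = (presheafToSheaf K AddCommGrpCat.{u}).map _
    rw [← Functor.map_comp]
    congr 1
    exact (colimit.isColimit (F ⋙ Φ J u p)).fac ((Φ J u p).mapCocone c) i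
  have : PreservesColimit F (TP J p ⋙ Eu K u) := key
  exact preservesColimit_of_natIso F (RpushIso J K u p).symm

end Groth.Agent.Lib.Helper22.RpushNat
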