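import Groth.Agent.Lib.Helper22.DeltaMV
import Groth.Agent.Lib.Helper22.CechEdge.ShDelta
import Groth.Agent.Lib.Helper22.SheafExact
import Groth.Prelude.Def_FreeSh

/-!
# The cohomology presheaves `U ↦ H^n(U, F)` as a δ-functor with values in presheaves
-/

set_option autoImplicit false
set_option linter.unusedSectionVars false

universe u

open CategoryTheory CategoryTheory.Limits Opposite Abelian

namespace Groth.Agent.Lib.Helper22.RpushNat

open Groth.Agent.Lib.Helper22.CechEdge Groth.Agent.Lib.Helper22.SheafExact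

variable {C : Type u} [SmallCategory C] (J : GrothendieckTopology C)

/-- The cohomology presheaf functor. -/
noncomputable abbrev TP (n : ℕ) : Sheaf J AddCommGrpCat.{u} ⥤ Cᵒᵖ ⥤ AddCommGrpCat.{u} :=
  Sheaf.cohomologyPresheafFunctor J n

lemma TP_obj_map_apply (n : ℕ) (F : Sheaf J AddCommGrpCat.{u}) {U V : Cᵒᵖ} (i : U ⟶ V)
    (x : Ext (CohCx.freeSheaf J U.unop) F n) :
    (((TP J n).obj F).map i).hom x =
      (Ext.mk₀ (CohCx.freeSheafMap J i.unop)).comp x (zero_add n) := rfl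

lemma TP_map_app_apply (n : ℕ) {F F' : Sheaf J AddCommGrpCat.{u}} (φ : F ⟶ F') (U : Cᵒᵖ)
    (x : Ext (CohCx.freeSheaf J U.unop) F n) :
    (((TP J n).map φ).app U).hom x = x.comp (Ext.mk₀ φ) (add_zero n) := rfl

instance additive_TP (n : ℕ) : (TP J n).Additive where
  map_add {F G f g} := by
    ext U x
    exact HUFunctor_map_add_aux J U.unop f g n x

/-- The connecting morphism of cohomology presheaves. -/
noncomputable def δP {S : ShortComplex (Sheaf J AddCommGrpCat.{u})} (hS : S.ShortExact)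
    (n₀ n₁ : ℕ) (h : n₀ + 1 = n₁) : (TP J n₀).obj S.X₃ ⟶ (TP J n₁).obj S.X₁ where
  app U := AddCommGrpCat.ofHom (hS.extClass.postcomp (CohCx.freeSheaf J U.unop) h)
  naturality {U V} i := by
    ext x
    change ((Ext.mk₀ (CohCx.freeSheafMap J i.unop)).comp x (zero_add n₀)).comp hS.extClass h =
      (Ext.mk₀ (CohCx.freeSheafMap J i.unop)).comp (x.comp hS.extClass h) (zero_add n₁)
    exact Ext.comp_assoc _ _ _ _ _ (by omega)

/-- `F ↦ (U ↦ H^•(U, F))` as a cohomological δ-functor with values in abelian presheaves. -/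
noncomputable def presheafDelta :
    DeltaF.CohDeltaFunctor (Sheaf J AddCommGrpCat.{u}) (Cᵒᵖ ⥤ AddCommGrpCat.{u}) ℕ where
  F n := TP J n
  additive n := inferInstance
  δ S hS n₀ n₁ h := δP J hS n₀ n₁ h
  δ_natural {S S'} hS hS' φ n₀ n₁ h := by
    ext U x
    exact nat_aux hS hS' φ h x
  exact₂ S hS n := exact_of_evaluation _ (fun U =>
    Ext.covariant_sequence_exact₂' (CohCx.freeSheaf J U.unop) hS n)
  comp_δ S hS n₀ n₁ h := by
    ext U x
    exact comp_δ_aux hS h x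
  exact₃ S hS n₀ n₁ h := exact_of_evaluation _ (fun U =>
    Ext.covariant_sequence_exact₃' (CohCx.freeSheaf J U.unop) hS n₀ n₁ h)
  δ_comp S hS n₀ n₁ h := by
    ext U x
    exact δ_comp_aux hS h x
  exact₁ S hS n₀ n₁ h := exact_of_evaluation _ (fun U =>
    Ext.covariant_sequence_exact₁' (CohCx.freeSheaf J U.unop) hS n₀ n₁ h)

/-- `H^0(U, F) ≃+ F(U)`. -/
noncomputable def ext0Equiv (U : C) (F : Sheaf J AddCommGrpCat.{u}) :
    Ext (CohCx.freeSheaf J U) F 0 ≃+ F.obj.obj (op U) :=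
  Ext.addEquiv₀.trans (CohFree.homEquivSect J U F)

lemma ext0Equiv_mk₀ (U : C) (F : Sheaf J AddCommGrpCat.{u}) (ψ : CohCx.freeSheaf J U ⟶ F) :
    ext0Equiv J U F (Ext.mk₀ ψ) = CohFree.homEquivSect J U F ψ := by
  change CohFree.homEquivSect J U F (Ext.addEquiv₀ (Ext.mk₀ ψ)) = _
  congr 1
  exact Ext.addEquiv₀.apply_symm_apply ψ

lemma ext0Equiv_naturality_left {U V : C} (i : V ⟶ U) (F : Sheaf J AddCommGrpCat.{u})
    (x : Ext (CohCx.freeSheaf J U) F 0) :
    ext0Equiv J V F ((Ext.mk₀ (CohCx.freeSheafMap J i)).comp x (zero_add 0)) =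
      (F.obj.map i.op).hom (ext0Equiv J U F x) := by
  obtain ⟨ψ, rfl⟩ := Ext.addEquiv₀.symm.surjective x
  change ext0Equiv J V F ((Ext.mk₀ (CohCx.freeSheafMap J i)).comp (Ext.mk₀ ψ) _) = _
  rw [Ext.mk₀_comp_mk₀, ext0Equiv_mk₀]
  change _ = (F.obj.map i.op).hom (ext0Equiv J U F (Ext.mk₀ ψ))
  rw [ext0Equiv_mk₀]
  exact CohFree.evalGen_freeSheafMap_comp J i F ψ

lemma ext0Equiv_naturality_right (U : C) {F F' : Sheaf J AddCommGrpCat.{u}} (φ : F ⟶ F')
    (x : Ext (CohCx.freeSheaf J U) F 0) :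
    ext0Equiv J U F' (x.comp (Ext.mk₀ φ) (add_zero 0)) =
      (φ.hom.app (op U)).hom (ext0Equiv J U F x) := by
  obtain ⟨ψ, rfl⟩ := Ext.addEquiv₀.symm.surjective x
  change ext0Equiv J U F' ((Ext.mk₀ ψ).comp (Ext.mk₀ φ) _) = _
  rw [Ext.mk₀_comp_mk₀, ext0Equiv_mk₀]
  change _ = (φ.hom.app (op U)).hom (ext0Equiv J U F (Ext.mk₀ ψ))
  rw [ext0Equiv_mk₀]
  rfl

/-- `T⁰ ≅ sheafToPresheaf`. -/
noncomputable def TP0Iso : TP J 0 ≅ sheafToPresheaf J AddCommGrpCat.{u} :=
  NatIso.ofComponents (fun F => NatIso.ofComponents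
    (fun U => (ext0Equiv J U.unop F).toAddCommGrpIso)
    (fun {U V} i => by
      ext x
      exact ext0Equiv_naturality_left J i.unop F x))
    (fun {F F'} φ => by
      ext U x
      exact ext0Equiv_naturality_right J U.unop φ x)

end Groth.Agent.Lib.Helper22.RpushNat
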